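import Mathlib.LinearAlgebra.Basis.Fin
import Mathlib.LinearAlgebra.FreeModule.PID
import Mathlib.LinearAlgebra.FreeModule.Finite.Basic
import Mathlib.LinearAlgebra.Dimension.StrongRankCondition
import Mathlib.LinearAlgebra.StdBasis
import Mathlib.Algebra.GCDMonoid.Finset
import Mathlib.Algebra.GCDMonoid.Nat
import Mathlib.RingTheory.PrincipalIdealDomain
import Mathlib.Algebra.EuclideanDomain.Int

/-!
A basis of `ℤ^C` whose first vector is the primitive vector `m / gcd(m)` (needed for S4083).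
-/

set_option autoImplicit false

namespace Groth.Agent.Sga7.H397.LatBasis

/-- Bezout for a finite family of natural numbers. -/
theorem exists_bezout {C : Type} [Fintype C] (m : C → ℕ) :
    ∃ c : C → ℤ, ((Finset.univ.gcd m : ℕ) : ℤ) = ∑ i, (m i : ℤ) * c i := by
  classical
  obtain ⟨c, hc⟩ := Finset.gcd_eq_sum_mul Finset.univ (fun i : C => (m i : ℤ))
  set G : ℤ := Finset.univ.gcd (fun i : C => (m i : ℤ)) with hG
  set g : ℕ := Finset.univ.gcd m with hg
  have h1 : (g : ℤ) ∣ G := by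
    refine Finset.dvd_gcd fun i _ => ?_
    exact Int.natCast_dvd_natCast.2 (Finset.gcd_dvd (Finset.mem_univ i))
  have h2 : G.natAbs ∣ g := by
    refine Finset.dvd_gcd fun i _ => ?_
    have : G ∣ (m i : ℤ) := Finset.gcd_dvd (Finset.mem_univ i)
    exact Int.natAbs_dvd_natAbs.2 this
  have h3 : G ∣ (g : ℤ) := Int.natAbs_dvd.1 (Int.natCast_dvd_natCast.2 h2)
  obtain ⟨e, he⟩ := h3
  refine ⟨fun i => c i * e, ?_⟩
  rw [he, hc, Finset.sum_mul]
  exact Finset.sum_congr rfl fun i _ => by ring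

theorem exists_basis (C : Type) [Fintype C] [Nonempty C] (m : C → ℕ) (hm : ∀ i, 0 < m i) (r : ℕ)
    (hr : Fintype.card C = r + 1) :
    ∃ b : Module.Basis (Fin (r + 1)) ℤ (C → ℤ),
      (fun i => (m i : ℤ)) = ((Finset.univ.gcd m : ℕ) : ℤ) • b 0 := by
  classical
  obtain ⟨i₀⟩ := ‹Nonempty C›
  obtain ⟨w, hw, -⟩ := Finset.extract_gcd (s := Finset.univ) m ⟨i₀, Finset.mem_univ i₀⟩
  obtain ⟨c, hc⟩ := exists_bezout m
  set g : ℕ := Finset.univ.gcd m with hg
  have hg0 : (g : ℤ) ≠ 0 := by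
    have h := hw i₀ (Finset.mem_univ i₀)
    have hm0 := hm i₀
    intro h0
    have : g = 0 := by exact_mod_cast h0
    rw [this, zero_mul] at h
    omega
  have hmw : ∀ i, (m i : ℤ) = (g : ℤ) * (w i : ℤ) := fun i => by
    rw [hw i (Finset.mem_univ i)]; push_cast; ring
  let v : C → ℤ := fun i => (w i : ℤ)
  let φ : (C → ℤ) →ₗ[ℤ] ℤ :=
    { toFun := fun x => ∑ i, x i * c i
      map_add' := fun x y => by simp [add_mul, Finset.sum_add_distrib]
      map_smul' := fun a x => by simp [Finset.mul_sum, mul_assoc] }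
  have hφv : φ v = 1 := by
    apply mul_left_cancel₀ hg0
    change (g : ℤ) * ∑ i, (w i : ℤ) * c i = (g : ℤ) * 1
    rw [mul_one, Finset.mul_sum]
    refine Eq.trans ?_ hc.symm
    exact Finset.sum_congr rfl fun i _ => by rw [hmw i]; ring
  let N : Submodule ℤ (C → ℤ) := LinearMap.ker φ
  obtain ⟨n, bN⟩ := Submodule.basisOfPid (Pi.basisFun ℤ C) N
  have hli : ∀ (a : ℤ), ∀ x ∈ N, a • v + x = 0 → a = 0 := by
    intro a x hx h
    have h' := congrArg φ h
    rw [map_add, map_smul, hφv, LinearMap.mem_ker.1 hx] at h'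
    simpa using h'
  have hsp : ∀ z : C → ℤ, ∃ a : ℤ, z + a • v ∈ N := by
    intro z
    refine ⟨-φ z, LinearMap.mem_ker.2 ?_⟩
    rw [map_add, map_smul, hφv]
    simp
  let B := Module.Basis.mkFinCons v bN hli hsp
  have hn : n + 1 = r + 1 := by
    have h1 := Module.finrank_eq_card_basis B
    have h2 := Module.finrank_eq_card_basis (Pi.basisFun ℤ C)
    rw [Fintype.card_fin] at h1
    omega
  obtain rfl : n = r := by omega
  refine ⟨B, ?_⟩
  have hB0 : B 0 = v := by
    change (Module.Basis.mkFinCons v bN hli hsp) 0 = v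
    rw [Module.Basis.coe_mkFinCons]
    rfl
  rw [hB0]
  funext i
  change (m i : ℤ) = (g : ℤ) • v i
  rw [hmw i]
  rfl

end Groth.Agent.Sga7.H397.LatBasis
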